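import Groth.Agent.Lib.ShDvrCd18.Norm
import Groth.Agent.S7732

/-!
# Cohomological dimension of the fraction field of a strictly henselian discrete valuation ring
-/

set_option autoImplicit false
set_option backward.isDefEq.respectTransparency false
set_option backward.isDefEq.respectTransparency.types false
set_option linter.all false

universe u

open CategoryTheory CategoryTheory.Abelian AlgebraicGeometry IsLocalRing

noncomputable section

namespace GrothLib.ShDvrCd18

/-- A group killed by `n` vanishes once its elements of prime order dividing `n` do. -/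
theorem eq_zero_of_primes {A : Type*} [AddCommGroup A] (n : ℕ) (hn : n ≠ 0)
    (h : ∀ p : ℕ, p.Prime → p ∣ n → ∀ y : A, p • y = 0 → y = 0) (x : A) (hx : n • x = 0) : x = 0 := by
  by_contra hne
  have h1 : addOrderOf x ≠ 1 := mt AddMonoid.addOrderOf_eq_one_iff.1 hne
  obtain ⟨p, hp, hd⟩ := Nat.exists_prime_and_dvd h1
  obtain ⟨m, hm⟩ := hd
  have hpn : p ∣ n := (dvd_mul_right p m).trans (hm ▸ addOrderOf_dvd_of_nsmul_eq_zero hx)
  have h2 : p • (m • x) = 0 := by rw [← mul_nsmul', ← hm, addOrderOf_nsmul_eq_zero]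
  have h3 := addOrderOf_dvd_of_nsmul_eq_zero (h p hp hpn _ h2)
  have h0 : 0 < addOrderOf x := Nat.pos_of_ne_zero fun h0 => by
    have := addOrderOf_dvd_of_nsmul_eq_zero hx
    rw [h0, zero_dvd_iff] at this
    exact hn this
  have hmpos : 0 < m := Nat.pos_of_ne_zero fun h => by rw [hm, h, mul_zero] at h0; exact lt_irrefl 0 h0
  have := Nat.le_of_dvd hmpos h3
  rw [hm] at this
  nlinarith [hp.two_le]

theorem natCast_ne_zero (R K : Type u) [CommRing R] [Nontrivial R] [Field K] [Algebra R K] {p : ℕ}
    (hu : IsUnit (p : R)) : (p : K) ≠ 0 := by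
  have := (hu.map (algebraMap R K)).ne_zero
  rwa [map_natCast] at this

/-- Torsion classes of order invertible in `R` vanish above degree one. -/
theorem primary_eq_zero (R : Type u) [CommRing R] [IsDomain R] [IsDiscreteValuationRing R]
    [HenselianLocalRing R] [IsSepClosed (ResidueField R)] (K : Type u) [Field K] [Algebra R K] [IsFractionRing R K]
    (p : ℕ) [Fact p.Prime] (hu : IsUnit (p : R))
    (F : EtCoh.Ab (Spec (CommRingCat.of K))) (hF : EtCoh.IsTorsion F) (q : ℕ) (hq : 2 ≤ q)
    (x : EtCoh.H (Spec (CommRingCat.of K)) F q) (hx : p • x = 0) : x = 0 := by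
  have h3 : ∀ (K' : Type u) [Field K'] [Algebra K K'] [Algebra.IsSeparable K K']
      (L : Type u) [Field L] [Algebra K' L] [FiniteDimensional K' L] [IsGalois K' L],
      Module.finrank K' L = p → ∀ x : K', x ≠ 0 → ∃ y : L, Algebra.norm K' y = x := by
    intro K' _ _ _ L _ _ _ _ hL x hx
    exact normSurj (R := R) K p hu K' L hL x hx
  exact ((Groth.Agent.S7732.result K p (natCast_ne_zero R K hu)).out 2 0 rfl rfl).1 h3 F hF q hq x ⟨1, by rwa [pow_one]⟩

/-- Sheaves killed by an integer invertible in `R` have no cohomology above degree one. -/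
theorem subsingleton_H (R : Type u) [CommRing R] [IsDomain R] [IsDiscreteValuationRing R]
    [HenselianLocalRing R] [IsSepClosed (ResidueField R)] (K : Type u) [Field K] [Algebra R K] [IsFractionRing R K]
    (n : ℕ) (hn0 : n ≠ 0) (hn : IsUnit (n : R))
    (F : EtCoh.Ab (Spec (CommRingCat.of K))) (hF : n • 𝟙 F = 0) (q : ℕ) (hq : 2 ≤ q) :
    Subsingleton (EtCoh.H (Spec (CommRingCat.of K)) F q) := by
  suffices h : ∀ x : EtCoh.H (Spec (CommRingCat.of K)) F q, x = 0 from ⟨fun a b => (h a).trans (h b).symm⟩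
  intro x
  refine eq_zero_of_primes n hn0 (fun p hp hpn y hy => ?_) x (GrothLib.GalCd.nsmul_H hF x)
  haveI : Fact p.Prime := ⟨hp⟩
  have hu : IsUnit (p : R) := isUnit_of_dvd_unit (Nat.cast_dvd_cast hpn) hn
  exact primary_eq_zero R K p hu F (GrothLib.GalCd.isTorsion_of_killed hn0 hF) q hq y hy

end GrothLib.ShDvrCd18
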