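import Groth.Agent.Lib.Olivier.Main
import Groth.Agent.Lib.LocAcyc.Universal
import Groth.Agent.Lib.GalCd.BrNorm
import Mathlib.RingTheory.DedekindDomain.IntegralClosure
import Mathlib.RingTheory.Henselian
import Mathlib.RingTheory.Trace.Basic
import Mathlib.RingTheory.Norm.Basic
import Mathlib.RingTheory.DiscreteValuationRing.TFAE

/-!
# Norms in extensions of the fraction field of a strictly henselian discrete valuation ring
-/

set_option autoImplicit false
set_option linter.style.haveILetI false
set_option linter.all false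

universe u

open IsLocalRing

noncomputable section

namespace GrothLib.ShDvrCd18

variable (R : Type u) [CommRing R]

/-- `w` and its inverse are integral. -/
def Uni {M : Type u} [Field M] [Algebra R M] (w : M) : Prop := IsIntegral R w ∧ IsIntegral R w⁻¹

variable {R}

section Basic

variable {M : Type u} [Field M] [Algebra R M] {v w : M}

theorem uni_one : Uni R (1 : M) := ⟨isIntegral_one, by rw [inv_one]; exact isIntegral_one⟩

theorem Uni.inv (h : Uni R w) : Uni R w⁻¹ := ⟨h.2, by rw [inv_inv]; exact h.1⟩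

theorem Uni.mul (h : Uni R v) (h' : Uni R w) : Uni R (v * w) :=
  ⟨h.1.mul h'.1, by rw [mul_inv]; exact h.2.mul h'.2⟩

theorem Uni.pow (h : Uni R w) (n : ℕ) : Uni R (w ^ n) := ⟨h.1.pow n, by rw [← inv_pow]; exact h.2.pow n⟩

theorem Uni.zpow (h : Uni R w) : ∀ n : ℤ, Uni R (w ^ n)
  | (n : ℕ) => by rw [zpow_natCast]; exact h.pow n
  | Int.negSucc n => by rw [zpow_negSucc]; exact (h.pow _).inv

theorem Uni.of_pow {n : ℕ} (hn : 0 < n) (h : Uni R (w ^ n)) : Uni R w :=
  ⟨IsIntegral.of_pow hn h.1, IsIntegral.of_pow hn (by rw [inv_pow]; exact h.2)⟩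

theorem Uni.of_algEquiv {M' : Type u} [Field M'] [Algebra R M'] (σ : M →ₐ[R] M') (h : Uni R w) : Uni R (σ w) :=
  ⟨h.1.map σ, by rw [← map_inv₀]; exact h.2.map σ⟩

theorem isUnit_of_uni (h : Uni R w) (hw : w ≠ 0) : IsUnit (⟨w, h.1⟩ : integralClosure R M) :=
  IsUnit.of_mul_eq_one ⟨w⁻¹, h.2⟩ (Subtype.ext (mul_inv_cancel₀ hw))

theorem uni_coe_of_isUnit (a : integralClosure R M) (h : IsUnit a) : Uni R (a : M) := by
  refine ⟨a.2, ?_⟩
  obtain ⟨b, hb⟩ := h.exists_right_inv
  rw [← eq_inv_of_mul_eq_one_right (congrArg Subtype.val hb : (a : M) * b = 1)]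
  exact b.2

end Basic

variable [HenselianLocalRing R] [IsSepClosed (ResidueField R)]

section Ext

variable (M : Type u) [Field M] [Algebra R M]

instance : IsLocalRing (integralClosure R M) := GrothLib.Olivier.isLocalRing_integralClosure R

instance : HenselianLocalRing (integralClosure R M) := GrothLib.LocAcyc.henselianLocalRing_of_isIntegral R _

instance : IsLocalHom (algebraMap R (integralClosure R M)) :=
  ((local_hom_TFAE _).out 0 4).2
    (eq_maximalIdeal (Ideal.isMaximal_comap_of_isIntegral_of_isMaximal (R := R) (maximalIdeal (integralClosure R M))))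

instance : Algebra.IsIntegral (ResidueField R) (ResidueField (integralClosure R M)) := by
  haveI : Algebra.IsIntegral R (ResidueField (integralClosure R M)) :=
    Algebra.IsIntegral.of_surjective (IsScalarTower.toAlgHom R (integralClosure R M) (ResidueField (integralClosure R M)))
      IsLocalRing.residue_surjective
  exact Algebra.IsIntegral.tower_top (R := R)

instance : IsSepClosed (ResidueField (integralClosure R M)) :=
  haveI : Algebra.IsAlgebraic (ResidueField R) (ResidueField (integralClosure R M)) := Algebra.IsIntegral.isAlgebraic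
  Algebra.IsAlgebraic.isSepClosed (F := ResidueField R)

variable {M}

/-- Units have `p`-th roots. -/
theorem exists_pow_eq {p : ℕ} (hp : p ≠ 0) (hu : IsUnit (p : R)) {w : M} (hw0 : w ≠ 0) (hw : Uni R w) :
    ∃ t : M, t ^ p = w := by
  let S := integralClosure R M
  let u : S := ⟨w, hw.1⟩
  have hu' : IsUnit u := isUnit_of_uni hw hw0
  have hpS : IsUnit ((p : ℕ) : S) := by have := hu.map (algebraMap R S); rwa [map_natCast] at this
  let f : Polynomial S := Polynomial.X ^ p - Polynomial.C u
  have hr : residue S u ≠ 0 := (hu'.map (residue S)).ne_zero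
  have hpk : ((p : ℕ) : ResidueField S) ≠ 0 := by
    have := (hpS.map (residue S)).ne_zero
    rwa [map_natCast] at this
  obtain ⟨z, hz⟩ := IsSepClosed.exists_root (Polynomial.X ^ p - Polynomial.C (residue S u))
    (by rw [Polynomial.degree_X_pow_sub_C (Nat.pos_of_ne_zero hp)]; exact_mod_cast hp)
    (Polynomial.separable_X_pow_sub_C _ hpk hr)
  have hzp : z ^ p = residue S u := by simpa [Polynomial.IsRoot, sub_eq_zero] using hz
  obtain ⟨a, rfl⟩ := residue_surjective z
  have ha : IsUnit a := by
    rw [← residue_ne_zero_iff_isUnit]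
    intro h0
    rw [h0, zero_pow hp] at hzp
    exact hr hzp.symm
  obtain ⟨b, hb, -⟩ := HenselianLocalRing.is_henselian f (Polynomial.monic_X_pow_sub_C u hp) a
    (by
      rw [← residue_eq_zero_iff]
      simp [f, hzp])
    (by
      simp only [f, Polynomial.derivative_sub, Polynomial.derivative_X_pow, Polynomial.derivative_C, sub_zero,
        Polynomial.eval_mul, Polynomial.eval_C, Polynomial.eval_pow, Polynomial.eval_X]
      exact hpS.mul (ha.pow _))
  refine ⟨(b : M), ?_⟩
  have hb' : b ^ p = u := by simpa [f, Polynomial.IsRoot, sub_eq_zero] using hb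
  exact congrArg Subtype.val hb'

/-- Two units in a single residue class of the integral closure. -/
theorem residue_algEquiv (σ : M →ₐ[R] M) (a : integralClosure R M) :
    residue (integralClosure R M) ⟨σ a, a.2.map σ⟩ = residue (integralClosure R M) a := by
  let S := integralClosure R M
  let s : S →ₐ[R] S :=
    { toFun := fun x => ⟨σ x, x.2.map σ⟩
      map_one' := Subtype.ext (map_one σ)
      map_mul' := fun x y => Subtype.ext (map_mul σ _ _)
      map_zero' := Subtype.ext (map_zero σ)
      map_add' := fun x y => Subtype.ext (map_add σ _ _)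
      commutes' := fun r => Subtype.ext (σ.commutes r) }
  haveI : IsLocalHom s.toRingHom := ⟨fun x hx => by
    rcases eq_or_ne (x : M) 0 with h0 | h0
    · exact absurd hx (by rw [show x = 0 from Subtype.ext h0, map_zero]; exact not_isUnit_zero)
    · have h1 := uni_coe_of_isUnit _ hx
      refine isUnit_of_uni (w := (x : M)) ⟨x.2, ?_⟩ h0
      have h2 : IsIntegral R (σ (x : M)⁻¹) := by rw [map_inv₀]; exact h1.2
      exact (isIntegral_algHom_iff σ σ.toRingHom.injective).1 h2⟩
  let sr : ResidueField S →ₐ[ResidueField R] ResidueField S :=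
    { ResidueField.map s.toRingHom with
      commutes' := fun c => by
        obtain ⟨r, rfl⟩ := residue_surjective c
        exact congrArg (residue S) (s.commutes r) }
  haveI : Algebra.IsAlgebraic (ResidueField R) (ResidueField S) := Algebra.IsIntegral.isAlgebraic
  haveI : IsPurelyInseparable (ResidueField R) (ResidueField S) := inferInstance
  exact DFunLike.congr_fun (Subsingleton.elim sr (AlgHom.id _ _)) (residue S a)

end Ext

variable [IsDomain R] [IsDiscreteValuationRing R] (K : Type u) [Field K] [Algebra R K] [IsFractionRing R K]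

/-- Some power of a nonzero element is an integral power of the uniformizer, up to a unit. -/
theorem exists_rank {ϖ : R} (hϖ : Irreducible ϖ) {M : Type u} [Field M] [Algebra K M] [Algebra R M]
    [IsScalarTower R K M] [Algebra.IsSeparable K M] {y : M} (hy : y ≠ 0) :
    ∃ (N : ℕ) (k : ℤ), 0 < N ∧ Uni R (y ^ N / algebraMap R M ϖ ^ k) := by
  have hint : IsIntegral K y := (Algebra.IsSeparable.isSeparable K y).isIntegral
  let L : IntermediateField K M := IntermediateField.adjoin K {y}
  haveI : FiniteDimensional K L := IntermediateField.adjoin.finiteDimensional hint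
  haveI : FaithfulSMul R L := (faithfulSMul_iff_algebraMap_injective R L).2 <| by
    rw [IsScalarTower.algebraMap_eq R K L]
    exact (algebraMap K L).injective.comp (IsFractionRing.injective R K)
  let B := integralClosure R L
  haveI : Module.Finite R B := IsIntegralClosure.finite R K L B
  haveI : Algebra.IsIntegral R B := inferInstance
  haveI : IsFractionRing B L := IsIntegralClosure.isFractionRing_of_finite_extension R K L B
  haveI : IsDedekindDomain B := integralClosure.isDedekindDomain R K L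
  have hRB : Function.Injective (algebraMap R B) := fun a b h => FaithfulSMul.algebraMap_injective R L
    (congrArg Subtype.val h)
  have hnf : ¬ IsField B := fun hF =>
    IsDiscreteValuationRing.not_isField R (isField_of_isIntegral_of_isField hRB hF)
  haveI : IsDiscreteValuationRing B := ((IsDiscreteValuationRing.TFAE B hnf).out 0 2 rfl rfl).2 ‹_›
  obtain ⟨ρ, hρ⟩ := IsDiscreteValuationRing.exists_irreducible B
  have hϖ0 : algebraMap R B ϖ ≠ 0 := fun h => hϖ.ne_zero (hRB (h.trans (map_zero _).symm))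
  obtain ⟨e, u₀, hu₀⟩ := IsDiscreteValuationRing.eq_unit_mul_pow_irreducible hϖ0 hρ
  have he : 0 < e := by
    rcases Nat.eq_zero_or_pos e with rfl | h
    · exact absurd (isUnit_of_map_unit (algebraMap R B) ϖ (by rw [hu₀, pow_zero, mul_one]; exact u₀.isUnit)) hϖ.not_isUnit
    · exact h
  obtain ⟨c, d, hd, hcd⟩ := IsFractionRing.div_surjective (A := B) (⟨y, IntermediateField.mem_adjoin_simple_self K y⟩ : L)
  have hc0 : c ≠ 0 := by
    rintro rfl
    rw [map_zero, zero_div] at hcd
    exact hy (congrArg Subtype.val hcd).symm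
  obtain ⟨a, uc, huc⟩ := IsDiscreteValuationRing.eq_unit_mul_pow_irreducible hc0 hρ
  obtain ⟨b, ud, hud⟩ := IsDiscreteValuationRing.eq_unit_mul_pow_irreducible (nonZeroDivisors.ne_zero hd) hρ
  let ι : L →ₐ[R] M := L.val.restrictScalars R
  have hU : ∀ v : Bˣ, Uni R (ι ((v : B) : L)) := fun v =>
    (uni_coe_of_isUnit (v : B) v.isUnit).of_algEquiv ι
  have hn : ∀ v : Bˣ, ι ((v : B) : L) ≠ 0 := fun v h =>
    v.ne_zero (Subtype.ext (ι.toRingHom.injective (h.trans (map_zero ι).symm)))
  set r : M := ι (ρ : L) with hrd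
  have hr0 : r ≠ 0 := fun h => hρ.ne_zero (Subtype.ext (ι.toRingHom.injective (h.trans (map_zero ι).symm)))
  have hy' : y = (ι ((uc : B) : L) * r ^ a) / (ι ((ud : B) : L) * r ^ b) := by
    have := congrArg ι hcd
    rw [map_div₀] at this
    change _ / _ = y at this
    rw [← this, huc, hud]
    simp [hrd]
  have hϖ' : algebraMap R M ϖ = ι ((u₀ : B) : L) * r ^ e := by
    have := congrArg (fun x : B => ι (x : L)) hu₀
    simpa [hrd] using this
  refine ⟨e, (a : ℤ) - b, he, ?_⟩
  have key : y ^ e / algebraMap R M ϖ ^ ((a : ℤ) - b) =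
      (ι ((uc : B) : L) * (ι ((ud : B) : L))⁻¹) ^ e * ((ι ((u₀ : B) : L)) ^ ((a : ℤ) - b))⁻¹ := by
    rw [hy', hϖ', mul_zpow, ← zpow_natCast r e, ← zpow_mul, mul_comm (e : ℤ), zpow_mul, zpow_natCast,
      zpow_sub₀ hr0, zpow_natCast, zpow_natCast]
    rw [mul_div_mul_comm, mul_pow, mul_div_mul_right _ _ (pow_ne_zero e (div_ne_zero (pow_ne_zero a hr0) (pow_ne_zero b hr0))),
      div_eq_mul_inv, div_eq_mul_inv]
  rw [key]
  exact (((hU uc).mul (hU ud).inv).pow e).mul ((hU u₀).zpow _).inv

/-- Norms of degree `p` extensions are surjective. -/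
theorem normSurj (p : ℕ) [Fact p.Prime] (hu : IsUnit (p : R)) : GrothLib.GalCd.NormSurj p K := by
  intro E _ _ _ M _ _ _ _ hM x hx
  have hp : p.Prime := Fact.out
  letI : Algebra R E := ((algebraMap K E).comp (algebraMap R K)).toAlgebra
  haveI : IsScalarTower R K E := IsScalarTower.of_algebraMap_eq fun _ => rfl
  letI : Algebra K M := ((algebraMap E M).comp (algebraMap K E)).toAlgebra
  haveI : IsScalarTower K E M := IsScalarTower.of_algebraMap_eq fun _ => rfl
  letI : Algebra R M := ((algebraMap E M).comp (algebraMap R E)).toAlgebra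
  haveI : IsScalarTower R E M := IsScalarTower.of_algebraMap_eq fun _ => rfl
  haveI : IsScalarTower R K M := IsScalarTower.of_algebraMap_eq fun _ => rfl
  haveI : Algebra.IsSeparable K M := Algebra.IsSeparable.trans K E M
  obtain ⟨ϖ, hϖ⟩ := IsDiscreteValuationRing.exists_irreducible R
  have hinjRM : Function.Injective (algebraMap R M) := by
    rw [IsScalarTower.algebraMap_eq R K M]
    exact (algebraMap K M).injective.comp (IsFractionRing.injective R K)
  have hϖM : algebraMap R M ϖ ≠ 0 := fun h => hϖ.ne_zero (hinjRM (h.trans (map_zero _).symm))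
  let π : E := algebraMap R E ϖ
  have hπ : π ≠ 0 := fun h => hϖM (by rw [IsScalarTower.algebraMap_apply R E M]; exact (congrArg (algebraMap E M) h).trans (map_zero _))
  let j : E →ₐ[R] M := IsScalarTower.toAlgHom R E M
  have hpow : ∀ t : E, ∃ s : M, Algebra.norm E s = t ^ p := fun t => ⟨algebraMap E M t, by
    rw [Algebra.norm_algebraMap, hM]⟩
  -- an element whose class is new
  obtain ⟨y, hy0, hy⟩ : ∃ y : M, y ≠ 0 ∧ ∀ c : E, c ≠ 0 → ¬ Uni R (y / algebraMap E M c) := by
    by_contra hcon
    push Not at hcon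
    obtain ⟨α₀, hα₀⟩ : ∃ α₀ : M, α₀ ∉ Set.range (algebraMap E M) := by
      by_contra h
      push Not at h
      have h1 := LinearEquiv.finrank_eq (AlgEquiv.ofBijective (Algebra.ofId E M) ⟨(algebraMap E M).injective, h⟩).toLinearEquiv
      rw [Module.finrank_self, hM] at h1
      exact hp.ne_one h1.symm
    let α : M := (p : M) * α₀ - algebraMap E M (Algebra.trace E M α₀)
    have hpE : (p : E) ≠ 0 := by
      have := (hu.map (algebraMap R E)).ne_zero
      rwa [map_natCast] at this
    have hpM : (p : M) ≠ 0 := by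
      have := (hu.map (algebraMap R M)).ne_zero
      rwa [map_natCast] at this
    have hα : α ≠ 0 := fun h => hα₀ ⟨(p : E)⁻¹ * Algebra.trace E M α₀, by
      rw [map_mul, map_inv₀, map_natCast, ← sub_eq_zero.1 h, ← mul_assoc, inv_mul_cancel₀ hpM, one_mul]⟩
    have htr : Algebra.trace E M α = 0 := by
      rw [map_sub, Algebra.trace_algebraMap, hM, ← nsmul_eq_mul, map_nsmul, sub_self]
    obtain ⟨c, hc, hw⟩ := hcon α hα
    set w := α / algebraMap E M c with hwdef
    have hw0 : w ≠ 0 := div_ne_zero hα (by simpa using hc)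
    have htrw : Algebra.trace E M w = 0 := by
      rw [hwdef, div_eq_inv_mul, ← map_inv₀, ← Algebra.smul_def, map_smul, htr, smul_zero]
    let S := integralClosure R M
    let ww : S := ⟨w, hw.1⟩
    let F : (M ≃ₐ[E] M) → S := fun σ => ⟨σ w, hw.1.map ((σ : M →ₐ[E] M).restrictScalars R)⟩
    have hsum : ∑ σ : M ≃ₐ[E] M, F σ = 0 := Subtype.ext (by
      rw [AddSubmonoidClass.coe_finset_sum, ← trace_eq_sum_automorphisms, htrw, map_zero]
      rfl)
    have h1 := congrArg (residue S) hsum
    have h2 : ∀ σ, residue S (F σ) = residue S ww := fun σ =>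
      residue_algEquiv ((σ : M →ₐ[E] M).restrictScalars R) ww
    rw [map_sum, map_zero, Finset.sum_congr rfl (fun σ _ => h2 σ),
      Finset.sum_const, Finset.card_univ, ← Nat.card_eq_fintype_card, IsGalois.card_aut_eq_finrank, hM,
      nsmul_eq_mul, mul_eq_zero] at h1
    have hpS : ((p : ℕ) : ResidueField S) ≠ 0 := by
      have := ((hu.map (algebraMap R S)).map (residue S)).ne_zero
      rwa [map_natCast, map_natCast] at this
    exact ((isUnit_of_uni hw hw0).map (residue S)).ne_zero (h1.resolve_left hpS)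
  let a : E := Algebra.norm E y
  have ha0 : a ≠ 0 := Algebra.norm_ne_zero_iff.2 hy0
  have ha : ∀ t : E, t ^ p ≠ a := by
    intro t ht
    have ht0 : t ≠ 0 := by
      rintro rfl
      rw [zero_pow hp.ne_zero] at ht
      exact ha0 ht.symm
    obtain ⟨N, k, hN, hk⟩ := exists_rank K hϖ hy0
    have hσ : ∀ σ : M ≃ₐ[E] M, Uni R (σ y / y) := fun σ => by
      refine Uni.of_pow hN ?_
      have h2 := (hk.of_algEquiv ((σ : M →ₐ[E] M).restrictScalars R)).mul hk.inv
      have e : (σ y / y) ^ N = ((σ : M →ₐ[E] M).restrictScalars R) (y ^ N / algebraMap R M ϖ ^ k) *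
          (y ^ N / algebraMap R M ϖ ^ k)⁻¹ := by
        rw [map_div₀, map_pow, map_zpow₀, AlgHom.commutes]
        have := zpow_ne_zero k hϖM
        change _ = σ y ^ N / _ * _
        field_simp
        rw [div_pow]
        field_simp
      rwa [e]
    refine hy t ht0 (Uni.of_pow hp.pos ?_)
    have hprod : Uni R (∏ σ : M ≃ₐ[E] M, σ y / y) :=
      Finset.prod_induction _ (Uni R) (fun _ _ h h' => h.mul h') uni_one (fun σ _ => hσ σ)
    rw [Finset.prod_div_distrib, ← Algebra.norm_eq_prod_automorphisms, Finset.prod_const, Finset.card_univ,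
      ← Nat.card_eq_fintype_card, IsGalois.card_aut_eq_finrank, hM] at hprod
    have hta : algebraMap E M a = algebraMap E M t ^ p := by rw [← map_pow, ht]
    rw [show algebraMap E M (Algebra.norm E y) = algebraMap E M t ^ p from hta] at hprod
    have h3 := hprod.inv
    rwa [inv_div, ← div_pow] at h3
  -- classes modulo `p`-th powers
  obtain ⟨N₁, k₁, hN₁, hk₁⟩ := exists_rank K hϖ ha0
  obtain ⟨N₂, k₂, hN₂, hk₂⟩ := exists_rank K hϖ hx
  let N := N₁ * N₂
  let α : ℤ := k₁ * N₂
  let β : ℤ := k₂ * N₁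
  have hA : Uni R (a ^ (N : ℤ) / π ^ α) := by
    have := hk₁.pow N₂
    rwa [div_pow, ← pow_mul, ← zpow_natCast, ← zpow_natCast, ← zpow_mul] at this
  have hB : Uni R (x ^ (N : ℤ) / π ^ β) := by
    have := hk₂.pow N₁
    rwa [div_pow, ← pow_mul, mul_comm N₂ N₁, ← zpow_natCast, ← zpow_natCast, ← zpow_mul] at this
  have hα0 : α ≠ 0 := by
    intro h0
    rw [h0, zpow_zero, div_one, zpow_natCast] at hA
    obtain ⟨t, ht⟩ := exists_pow_eq hp.ne_zero hu ha0 (hA.of_pow (Nat.mul_pos hN₁ hN₂))
    exact ha t ht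
  have hg : 0 < Int.gcd α β := Int.gcd_pos_of_ne_zero_left β hα0
  obtain ⟨m, n, hmn, hm, hn⟩ := Int.exists_gcd_one hg
  set g : ℤ := (Int.gcd α β : ℤ) with hgd
  have hu0 : Uni R (a ^ n / x ^ m) := by
    refine Uni.of_pow (Nat.mul_pos hN₁ hN₂) ?_
    have h2 := (hA.zpow n).mul (hB.zpow m).inv
    have e : (a ^ n / x ^ m) ^ N = (a ^ (N : ℤ) / π ^ α) ^ n * ((x ^ (N : ℤ) / π ^ β) ^ m)⁻¹ := by
      rw [div_pow, div_zpow, div_zpow, inv_div, ← zpow_natCast, ← zpow_natCast, ← zpow_mul, ← zpow_mul,
        ← zpow_mul, ← zpow_mul, ← zpow_mul, ← zpow_mul, hm, hn, mul_comm n, mul_comm m,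
        show m * g * n = n * g * m by ring]
      have := zpow_ne_zero (n * g * m) hπ
      field_simp
    rwa [e]
  have hu00 : a ^ n / x ^ m ≠ 0 := div_ne_zero (zpow_ne_zero _ ha0) (zpow_ne_zero _ hx)
  obtain ⟨s, hs⟩ := exists_pow_eq hp.ne_zero hu hu00 hu0
  have hs0 : s ≠ 0 := by
    rintro rfl
    rw [zero_pow hp.ne_zero] at hs
    exact hu00 hs.symm
  have han : a ^ n = x ^ m * s ^ p := by
    rw [hs, mul_comm, div_mul_cancel₀ _ (zpow_ne_zero _ hx)]
  have hpm : ¬ (p : ℤ) ∣ m := by
    rintro ⟨l, hl⟩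
    have hcop : IsCoprime (p : ℤ) n := by
      refine (Nat.prime_iff_prime_int.1 hp).coprime_iff_not_dvd.2 fun hd => ?_
      have := Int.dvd_gcd (a := m) (b := n) (c := p) ⟨l, hl⟩ hd
      rw [hmn] at this
      exact hp.ne_one (Nat.dvd_one.1 (by exact_mod_cast this))
    obtain ⟨i, i', hii⟩ := hcop
    refine ha (a ^ i * (x ^ l * s) ^ i') ?_
    have e : (x ^ l * s) ^ p = a ^ n := by
      rw [han, hl, mul_pow, ← zpow_natCast (x ^ l) p, ← zpow_mul, mul_comm l]
    calc (a ^ i * (x ^ l * s) ^ i') ^ p = a ^ (i * p) * ((x ^ l * s) ^ p) ^ i' := by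
          rw [mul_pow, zpow_mul, zpow_natCast, ← zpow_natCast ((x ^ l * s) ^ i'), ← zpow_mul,
            mul_comm i', zpow_mul, zpow_natCast]
      _ = a ^ (i * p + i' * n) := by rw [e, ← zpow_mul, mul_comm n, zpow_add₀ ha0]
      _ = a := by rw [hii, zpow_one]
  obtain ⟨i, i', hii⟩ := ((Nat.prime_iff_prime_int.1 hp).coprime_iff_not_dvd.2 hpm)
  -- `x = a ^ (n * i') * t ^ p`
  obtain ⟨t', ht'⟩ := hpow (x ^ i * (s ^ i')⁻¹)
  refine ⟨y ^ (n * i') * t', ?_⟩
  have hnz : ∀ k : ℤ, Algebra.norm E (y ^ k) = Algebra.norm E y ^ k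
    | (k : ℕ) => by rw [zpow_natCast, zpow_natCast, map_pow]
    | Int.negSucc k => by
      rw [zpow_negSucc, zpow_negSucc, ← map_pow]
      exact eq_inv_of_mul_eq_one_left (by rw [← map_mul, inv_mul_cancel₀ (pow_ne_zero _ hy0), map_one])
  rw [map_mul, hnz, ht', zpow_mul, show Algebra.norm E y = a from rfl, han]
  calc (x ^ m * s ^ p) ^ i' * (x ^ i * (s ^ i')⁻¹) ^ p
      = x ^ (i * p + i' * m) := by
        rw [mul_zpow, mul_pow, ← zpow_natCast (x ^ i), ← zpow_mul, ← zpow_mul, inv_pow,
          ← zpow_natCast (s ^ i'), ← zpow_mul, ← zpow_natCast s, ← zpow_mul, mul_comm (p : ℤ) i', mul_comm m i',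
          zpow_add₀ hx]
        have := zpow_ne_zero (i' * (p : ℤ)) hs0
        field_simp
    _ = x := by rw [hii, zpow_one]

end GrothLib.ShDvrCd18
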